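import Cfsg.Agent.Lib.Fusion.CentralLift.Component
import Cfsg.Agent.Lib.Fusion.CoreCentralizesComponents
import Cfsg.Agent.Lib.Fusion.MaxCentralizedExists
import Cfsg.Agent.Lib.Fusion.NormalCentralizer
import Cfsg.Prelude.Def_FusionFitting

/-!
# The generalized Fitting subsystem contains its centralizer

The centralizer of the layer is a normal subsystem without components, hence constrained, so what
centralizes the layer and `O_p(F)` lies in `O_p(F)`.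
-/

set_option autoImplicit false

open Cfsg Cfsg.FusionSystem

namespace CfsgLib.Fusion.GenFit

variable {Ω : Type*} [Group Ω]

/-- A system whose maps are inclusions is not quasisimple. -/
theorem not_quasisimple_of_trivial {T : Subgroup Ω} [Finite T] {C : FusionSystem T} {p : ℕ}
    (hfix : ∀ (P : Subgroup Ω) (φ : P →* Ω), φ ∈ C.Hom P → ∀ x : P, φ x = (x : Ω)) :
    ¬ C.Quasisimple p := by
  rintro ⟨-, hperf, hsimp⟩
  have hT : T = ⊥ := by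
    rw [← hperf, eq_bot_iff]
    refine (Subgroup.closure_le _).2 ?_
    rintro _ ⟨P, α, x, hP, -, rfl⟩
    exact Subgroup.mem_bot.2 (inv_mul_eq_one.2
      (hfix P _ ((mem_autGroup_iff C hP).1 α.2) x).symm)
  have hker : ∀ s : T, QuotientGroup.mk' ((C.center).subgroupOf T) s = 1 ↔ (s : Ω) ∈ C.center :=
    fun s => (QuotientGroup.eq_one_iff s).trans Subgroup.mem_subgroupOf
  obtain ⟨-, hne, -⟩ := hsimp _ (isFactorSystem_factorSystem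
    (CentralLift.stronglyClosed_of_isCentral (isCentral_center (F := C))) hker
    (QuotientGroup.range_mk' _))
  refine hne (eq_bot_iff.2 fun y _ => ?_)
  obtain ⟨s, rfl⟩ := QuotientGroup.mk'_surjective _ y
  refine Subgroup.mem_bot.2 ((hker s).2 ?_)
  rw [show (s : Ω) = 1 from Subgroup.mem_bot.1 (hT.le s.2)]
  exact one_mem _

variable {S : Subgroup Ω} [Finite S] {F : FusionSystem S} {p : ℕ} [Fact p.Prime]

/-- What centralizes the layer and the largest normal subgroup lies in the latter. -/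
theorem le_core_of_centralizes (hS : IsPGroup p S) {T : Subgroup Ω}
    {E : FusionSystem T} (hE : E.IsLayerOf F p) {Y : Subgroup Ω} (hY : Y ≤ centralizerIn S T)
    (hEY : ∀ P : Subgroup Ω, E.Hom P ⊆ F.centralizerHom Y P)
    (hYQ : ∀ y ∈ Y, y ∈ centralizerIn S F.core) : Y ≤ F.core := by
  have hm := MaxCent.main hS hE.1
  obtain ⟨N, hN, -⟩ := hm.exists_normal_centralizer hS hE.1
  have hNS := hN.1.2.2.2.1.1
  have := finite_of_le hNS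
  have hNc : N.IsConstrained p := by
    refine (CentralLift.isConstrained_iff_no_component (hS.to_le hNS) hN.1.1).2 ?_
    rintro ⟨U, C, hC⟩
    have hCF : C.IsComponentIn F p := ⟨.step hC.1 hN, hC.2⟩
    have hsub := hE.2.1 U C hCF
    have hU := subgroup_le_of_isSubnormalIn hC.1
    have := finite_of_le hU
    refine not_quasisimple_of_trivial (fun P φ hφ x => ?_) hC.2
    obtain ⟨-, -, -, ψ, -, hψe, hψY⟩ := hm.hEY P (hsub P hφ)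
    rw [← hψe x]
    exact (congrArg ψ (Subtype.ext rfl)).trans (hψY ⟨x, hU (le_S C hφ x.2)⟩)
  exact fun y hy => CentralLift.inf_centralizer_core_le hS hN hNc y (hm.hmax Y hY hEY hy) (hYQ y hy)

/-- **The generalized Fitting subsystem contains its centralizer.** -/
theorem center_maximal (hS : IsPGroup p S) (hF : F.IsSaturated p) {U : Subgroup Ω}
    {D : FusionSystem U} (hD : D.IsGeneralizedFittingOf F p) :
    (D.center ≤ centralizerIn S U ∧ ∀ P : Subgroup Ω, D.Hom P ⊆ F.centralizerHom D.center P) ∧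
      ∀ Y : Subgroup Ω, Y ≤ centralizerIn S U →
        (∀ P : Subgroup Ω, D.Hom P ⊆ F.centralizerHom Y P) → Y ≤ D.center := by
  obtain ⟨T, E, hE, D₀, hD₀, Z, θ, -, -, -, hθ1, hθ2, -, hker, hr, hiff⟩ := hD
  have hQn : F.IsNormal F.core := isNormal_core
  have hTsc := hE.1.1.2.2.2.1
  have hmul : ∀ s : ↥(F.core.prod T), θ s = (s : Ω × Ω).1 * (s : Ω × Ω).2 := by
    rintro ⟨⟨a, b⟩, ha, hb⟩
    have m1 : ((a, 1) : Ω × Ω) ∈ F.core.prod T := ⟨ha, T.one_mem⟩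
    have m2 : ((1, b) : Ω × Ω) ∈ F.core.prod T := ⟨F.core.one_mem, hb⟩
    have h0 : (⟨(a, b), ha, hb⟩ : ↥(F.core.prod T)) = ⟨(a, 1), m1⟩ * ⟨(1, b), m2⟩ :=
      Subtype.ext (Prod.ext (mul_one a).symm (one_mul b).symm)
    exact (congrArg θ h0).trans ((map_mul θ _ _).trans (by rw [hθ1 a m1, hθ2 b m2]))
  have hQU : F.core ≤ U := fun a ha =>
    hr.le ⟨⟨(a, 1), ha, T.one_mem⟩, hθ1 a ⟨ha, T.one_mem⟩⟩
  have hTU : T ≤ U := fun b hb =>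
    hr.le ⟨⟨(1, b), F.core.one_mem, hb⟩, hθ2 b ⟨F.core.one_mem, hb⟩⟩
  have hUS : U ≤ S := fun u hu => by
    obtain ⟨⟨⟨a, b⟩, ha, hb⟩, rfl⟩ := hr.ge hu
    rw [hmul]
    exact S.mul_mem (hQn.1 ha) (hTsc.1 hb)
  have := finite_of_le hUS
  have hQT : ∀ a ∈ F.core, ∀ b ∈ T, a * b = b * a := by
    intro a ha b hb
    have m1 : ((a, 1) : Ω × Ω) ∈ F.core.prod T := ⟨ha, T.one_mem⟩
    have m2 : ((1, b) : Ω × Ω) ∈ F.core.prod T := ⟨F.core.one_mem, hb⟩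
    have h1 := map_mul θ ⟨(1, b), m2⟩ ⟨(a, 1), m1⟩
    rw [hθ1 a m1, hθ2 b m2, hmul] at h1
    simpa using h1
  -- the shape of the maps
  have hdec : ∀ (P : Subgroup Ω) (φ : P →* Ω), φ ∈ D.Hom P →
      ∃ g ∈ F.core, ∃ (P₂ : Subgroup Ω) (φ₂ : P₂ →* Ω), φ₂ ∈ E.Hom P₂ ∧
        ∀ s : ↥(F.core.prod T), ∀ h : θ s ∈ P, ∃ h₂ : (s : Ω × Ω).2 ∈ P₂,
          φ ⟨θ s, h⟩ = g * (s : Ω × Ω).1 * g⁻¹ * φ₂ ⟨(s : Ω × Ω).2, h₂⟩ := by
    intro P φ hφ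
    obtain ⟨-, φ₀, hφ₀, hP₀, hφ₀S, hθP, he⟩ := (hiff P φ).1 hφ
    obtain ⟨-, φ₁, ⟨-, g, hg, hge⟩, φ₂, hφ₂, hφe⟩ := (hD₀ _ φ₀).1 hφ₀
    refine ⟨g, hg, _, φ₂, hφ₂, fun s h => ?_⟩
    have hs : (s : Ω × Ω) ∈ preimageAlong θ P := mem_preimageAlong.2 h
    have h₂ : (s : Ω × Ω).2 ∈ (preimageAlong θ P).map (MonoidHom.snd Ω Ω) := ⟨_, hs, rfl⟩
    refine ⟨h₂, (he ⟨s, hs⟩).trans ?_⟩
    have h3 := hφe ⟨(s : Ω × Ω), hs⟩ ⟨_, hs, rfl⟩ h₂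
    rw [hmul]
    change (φ₀ ⟨(s : Ω × Ω), hs⟩).1 * (φ₀ ⟨(s : Ω × Ω), hs⟩).2 = _
    rw [h3, hge]
  have hDF : ∀ P : Subgroup Ω, D.Hom P ⊆ F.Hom P := by
    intro P φ hφ
    obtain ⟨g, hg, P₂, φ₂, hφ₂, he⟩ := hdec P φ hφ
    obtain ⟨-, -, -, ψ, hψ, hψe, hψQ⟩ := CoreCent.core_centralizes_layer hS hF hE P₂ hφ₂
    have hle : P ≤ P₂ ⊔ F.core := fun y hy => by
      obtain ⟨s, rfl⟩ := hr.ge (le_S D hφ hy)
      obtain ⟨h₂, -⟩ := he s hy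
      rw [hmul]
      exact mul_mem (Subgroup.mem_sup_right s.2.1) (Subgroup.mem_sup_left h₂)
    have hr' := range_le_S F (res_mem F hψ hle)
    refine mem_of_eq rfl (F.comp_mem (res_mem F hψ hle) (F.conj_mem hr' (hQn.1 hg))
      fun y => ⟨y, rfl⟩) fun y => ?_
    obtain ⟨s, hs⟩ := hr.ge (le_S D hφ y.2)
    obtain ⟨h₂, hse⟩ := he s (hs ▸ y.2)
    change φ y = g * ψ (Subgroup.inclusion hle y) * g⁻¹
    rw [show y = ⟨θ s, hs ▸ y.2⟩ from Subtype.ext hs.symm, hse,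
      show Subgroup.inclusion hle ⟨θ s, hs ▸ y.2⟩ = Subgroup.inclusion le_sup_right
        (⟨(s : Ω × Ω).1, s.2.1⟩ : F.core) * Subgroup.inclusion le_sup_left ⟨(s : Ω × Ω).2, h₂⟩ from
        Subtype.ext (hmul s), map_mul, hψe, hψQ]
    calc g * (s : Ω × Ω).1 * g⁻¹ * φ₂ ⟨(s : Ω × Ω).2, h₂⟩
        = g * (s : Ω × Ω).1 * (g⁻¹ * φ₂ ⟨(s : Ω × Ω).2, h₂⟩) := by group
      _ = g * ((s : Ω × Ω).1 * φ₂ ⟨(s : Ω × Ω).2, h₂⟩) * g⁻¹ := by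
          rw [hQT _ (F.core.inv_mem hg) _ (apply_mem_S E hφ₂ _)]; group
  refine ⟨⟨fun z hz => ⟨hUS ((isCentral_center (F := D)).1 hz), D.center_le_centralizer hz⟩,
    fun P φ hφ => ?_⟩, fun Y hY hDY => ?_⟩
  · obtain ⟨ψ, hψ, hψe, hψZ⟩ := (isCentral_center (F := D)).2 P φ hφ
    have hc : ∀ u ∈ U, u ∈ centralizerIn S D.center := fun u hu =>
      ⟨hUS hu, fun z hz => ((D.center_le_centralizer hz) u hu).symm⟩
    exact ⟨hDF P hφ, fun y hy => hc y (le_S D hφ hy), fun y => hc _ (apply_mem_S D hφ y),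
      ψ, hDF _ hψ, hψe, hψZ⟩
  · -- `E` is inside `D`
    have hEY : ∀ P : Subgroup Ω, E.Hom P ⊆ F.centralizerHom Y P := by
      intro P φ hφ
      refine hDY P ?_
      obtain ⟨χ, hχ, hχe, -⟩ := (CoreCent.isNormal_inf hS hE.1 hQn).2 P φ hφ
      obtain ⟨-, -, -, ψ, -, hψe, hψQ⟩ := CoreCent.core_centralizes_layer hS hF hE _ hχ
      have hP'T : (P ⊔ T ⊓ F.core) ≤ T := le_S E hχ
      have hfixQ : ∀ z : ↥(P ⊔ T ⊓ F.core), (z : Ω) ∈ F.core → χ z = z := fun z hz => by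
        rw [← hψe z]
        exact (congrArg ψ (Subtype.ext rfl)).trans (hψQ ⟨z, hz⟩)
      have hs2 : ∀ s : ↥(F.core.prod T), θ s ∈ (P ⊔ T ⊓ F.core) →
          (s : Ω × Ω).1 ∈ (P ⊔ T ⊓ F.core) ∧ (s : Ω × Ω).2 ∈ (P ⊔ T ⊓ F.core) := by
        intro s hs
        have h1 : (s : Ω × Ω).1 ∈ T := by
          have := T.mul_mem (hP'T hs) (T.inv_mem s.2.2)
          rwa [hmul, mul_inv_cancel_right] at this
        have h2 : (s : Ω × Ω).1 ∈ (P ⊔ T ⊓ F.core) := Subgroup.mem_sup_right ⟨h1, s.2.1⟩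
        refine ⟨h2, ?_⟩
        have := Subgroup.mul_mem (P ⊔ T ⊓ F.core) (Subgroup.inv_mem (P ⊔ T ⊓ F.core) h2) hs
        rwa [hmul, inv_mul_cancel_left] at this
      have hl1 : (preimageAlong θ (P ⊔ T ⊓ F.core)).map (MonoidHom.fst Ω Ω) ≤ F.core := by
        rintro _ ⟨_, ⟨s, -, rfl⟩, rfl⟩
        exact s.2.1
      have hl2 : (preimageAlong θ (P ⊔ T ⊓ F.core)).map (MonoidHom.snd Ω Ω) ≤ (P ⊔ T ⊓ F.core) := by
        rintro _ ⟨_, ⟨s, hs, rfl⟩, rfl⟩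
        exact (hs2 s hs).2
      obtain ⟨φ₁, hφ₁⟩ : ∃ φ₁ : ↥((preimageAlong θ (P ⊔ T ⊓ F.core)).map (MonoidHom.fst Ω Ω)) →* Ω,
          φ₁ = Subgroup.subtype _ := ⟨_, rfl⟩
      let φ₀ : preimageAlong θ (P ⊔ T ⊓ F.core) →* Ω × Ω :=
        (((MonoidHom.fst Ω Ω).comp (preimageAlong θ (P ⊔ T ⊓ F.core)).subtype)).prod
          ((χ.comp (Subgroup.inclusion hl2)).comp ((MonoidHom.snd Ω Ω).subgroupMap _))
      have hφ₀ : φ₀ ∈ D₀.Hom (preimageAlong θ (P ⊔ T ⊓ F.core)) := (hD₀ _ φ₀).2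
        ⟨Subgroup.map_subtype_le _, Subgroup.subtype _,
          ⟨hl1, 1, F.core.one_mem, fun x => by rw [one_mul, inv_one, mul_one]; rfl⟩,
          _, res_mem E hχ hl2, fun x h₁ h₂ => rfl⟩
      have hφ₀S : ∀ x, φ₀ x ∈ F.core.prod T := apply_mem_S D₀ hφ₀
      have hχD : χ ∈ D.Hom (P ⊔ T ⊓ F.core) := (hiff (P ⊔ T ⊓ F.core) χ).2 ⟨hP'T.trans hTU, φ₀, hφ₀,
        Subgroup.map_subtype_le _, hφ₀S, fun x => by obtain ⟨_, s, hs, rfl⟩ := x; exact hs,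
        fun x => by
          obtain ⟨_, s, hs, rfl⟩ := x
          obtain ⟨h1, h2⟩ := hs2 s hs
          rw [hmul ⟨φ₀ _, hφ₀S _⟩]
          change χ ⟨θ s, _⟩ = (s : Ω × Ω).1 * χ ⟨(s : Ω × Ω).2, h2⟩
          rw [show (⟨θ s, hs⟩ : ↥(P ⊔ T ⊓ F.core)) = ⟨(s : Ω × Ω).1, h1⟩ * ⟨(s : Ω × Ω).2, h2⟩ from
            Subtype.ext (hmul s), map_mul, hfixQ ⟨_, h1⟩ s.2.1]⟩
      exact mem_of_eq rfl (res_mem D hχD le_sup_left) fun x => (hχe x).symm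
    have hYQ : Y ≤ F.core := le_core_of_centralizes hS hE
      (fun y hy => ⟨(hY hy).1, fun t ht => (hY hy).2 t (hTU ht)⟩) hEY
      fun y hy => ⟨(hY hy).1, fun q hq => (hY hy).2 q (hQU hq)⟩
    refine le_sSup (show D.IsCentral Y from ⟨hYQ.trans hQU, fun P φ hφ => ?_⟩)
    obtain ⟨g, hg, P₂, φ₂, hφ₂, he⟩ := hdec P φ hφ
    obtain ⟨-, -, -, ψ, hψ, hψe, hψY⟩ := hDY P hφ
    have hPY : P ⊔ Y ≤ U := sup_le (le_S D hφ) (hYQ.trans hQU)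
    have hemb : ∀ w ∈ Y, ((w, 1) : Ω × Ω) ∈ F.core.prod T := fun w hw => ⟨hYQ hw, T.one_mem⟩
    have hsplit : ∀ s : ↥(F.core.prod T), θ s ∈ P ⊔ Y → ∃ w, ∃ hw : w ∈ Y,
        θ (s * (⟨(w, 1), hemb w hw⟩ : ↥(F.core.prod T))⁻¹) ∈ P := by
      intro s hs
      obtain ⟨x, hx, w, hw, hxw⟩ := exists_mul_of_mem_sup (fun y hy =>
        mem_normalizer_of_forall_commute fun z hz => ((hY hz).2 y (le_S D hφ hy)).symm) hs
      refine ⟨w, hw, ?_⟩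
      rw [map_mul, map_inv, hθ1 w, hxw, mul_inv_cancel_right]
      exact hx
    have hl1 : (preimageAlong θ (P ⊔ Y)).map (MonoidHom.fst Ω Ω) ≤ F.core := by
      rintro _ ⟨_, ⟨s, -, rfl⟩, rfl⟩
      exact s.2.1
    have hl2 : (preimageAlong θ (P ⊔ Y)).map (MonoidHom.snd Ω Ω) ≤ P₂ := by
      rintro _ ⟨_, ⟨s, hs, rfl⟩, rfl⟩
      obtain ⟨w, hw, hw'⟩ := hsplit s hs
      obtain ⟨h₂, -⟩ := he _ hw'
      simpa using h₂
    let φ₀ : preimageAlong θ (P ⊔ Y) →* Ω × Ω :=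
      ((conjHom ⊤ g).comp ((Subgroup.inclusion le_top).comp ((MonoidHom.fst Ω Ω).subgroupMap _))).prod
        ((φ₂.comp (Subgroup.inclusion hl2)).comp ((MonoidHom.snd Ω Ω).subgroupMap _))
    have hφ₀ : φ₀ ∈ D₀.Hom (preimageAlong θ (P ⊔ Y)) := (hD₀ _ φ₀).2
      ⟨Subgroup.map_subtype_le _, conjHom _ g, ⟨hl1, g, hg, fun _ => rfl⟩,
        _, res_mem E hφ₂ hl2, fun x h₁ h₂ => rfl⟩
    have hφ₀S : ∀ x, φ₀ x ∈ F.core.prod T := apply_mem_S D₀ hφ₀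
    refine ⟨ψ, (hiff _ ψ).2 ⟨hPY, φ₀, hφ₀, Subgroup.map_subtype_le _, hφ₀S,
      fun x => by obtain ⟨_, s, hs, rfl⟩ := x; exact hs, fun x => ?_⟩, hψe, hψY⟩
    obtain ⟨_, s, hs, rfl⟩ := x
    obtain ⟨w, hw, hw'⟩ := hsplit s hs
    obtain ⟨h₂, hse⟩ := he _ hw'
    rw [hmul ⟨φ₀ _, hφ₀S _⟩]
    change ψ ⟨θ s, _⟩ = g * (s : Ω × Ω).1 * g⁻¹ *
      φ₂ ⟨(s : Ω × Ω).2, hl2 ⟨_, ⟨s, hs, rfl⟩, rfl⟩⟩
    rw [show (⟨θ s, hs⟩ : ↥(P ⊔ Y)) = Subgroup.inclusion le_sup_left ⟨_, hw'⟩ *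
        Subgroup.inclusion le_sup_right ⟨w, hw⟩ from Subtype.ext (by
          simp [map_mul, hθ1 w (hemb w hw)]), map_mul, hψe, hψY, hse]
    have e2 : (⟨((s * (⟨(w, 1), hemb w hw⟩ : ↥(F.core.prod T))⁻¹ : ↥(F.core.prod T)) : Ω × Ω).2, h₂⟩ :
        P₂) = ⟨(s : Ω × Ω).2, hl2 ⟨_, ⟨s, hs, rfl⟩, rfl⟩⟩ := Subtype.ext (by simp)
    rw [e2]
    have hgw : g * w = w * g := (hY hw).2 g (hQU hg)
    have hwt : w * φ₂ ⟨(s : Ω × Ω).2, hl2 ⟨_, ⟨s, hs, rfl⟩, rfl⟩⟩ =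
        φ₂ ⟨(s : Ω × Ω).2, hl2 ⟨_, ⟨s, hs, rfl⟩, rfl⟩⟩ * w :=
      hQT w (hYQ hw) _ (apply_mem_S E hφ₂ _)
    simp only [Subgroup.coe_mul, Subgroup.coe_inv, Prod.fst_mul, Prod.fst_inv]
    have hgw' : g⁻¹ * w = w * g⁻¹ := (Commute.inv_left hgw).eq
    rw [mul_assoc (g * ((s : Ω × Ω).1 * w⁻¹) * g⁻¹), ← hwt, ← mul_assoc,
      show g * ((s : Ω × Ω).1 * w⁻¹) * g⁻¹ * w = g * (s : Ω × Ω).1 * g⁻¹ by
        rw [mul_assoc _ g⁻¹ w, hgw']; group]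

end CfsgLib.Fusion.GenFit
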